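import Cfsg.Agent.H689.EB.RankRow
import Cfsg.Agent.H323.SuzOutB
import Cfsg.Agent.KFacts.SuzOut

/-!
# TEAM EB: the row `Suz` (helper689)
-/

set_option autoImplicit false
set_option maxRecDepth 100000
set_option exponentiation.threshold 5000
set_option linter.style.haveILetI false

namespace Cfsg.Agent.H689.EB.Suz

open Cfsg Cfsg.Agent.H684.EB Cfsg.Agent.H689.EB
open Cfsg.Spor (Suz)
open Cfsg.Agent.Lib.BitNet Cfsg.Agent.Lib.BitNetSimple Cfsg.Agent.OddHalf.Table.SuzGraph
  Cfsg.Agent.OddHalf.Table.SuzRep Cfsg.Agent.OddHalf.Table.OutSuz Cfsg.Agent.SporadicRecognition.SuzOrder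
open Cfsg.Agent.Lib.PermNetOrbit (ncard_testBit pc)
open Cfsg.Agent.SporadicRecognition.SuzPhi (φ)
open Cfsg.Agent.H323.SuzOut (exists_τ τ_outer)

universe u

theorem row0 : row 0 = U2 := by decide +kernel

theorem U1_bits {p : ℕ} : U1.testBit p = true ↔ 1 ≤ p ∧ p < 1366 := by
  have h1 : U1 = (2 ^ 1365 - 1) <<< 1 := by decide +kernel
  rw [h1, Nat.testBit_shiftLeft, Nat.testBit_two_pow_sub_one, Bool.and_eq_true, decide_eq_true_eq, decide_eq_true_eq]
  omega

theorem U2_bits {p : ℕ} : U2.testBit p = true ↔ 1366 ≤ p ∧ p < 1782 := by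
  have h1 : U2 = (2 ^ 416 - 1) <<< 1366 := by decide +kernel
  rw [h1, Nat.testBit_shiftLeft, Nat.testBit_two_pow_sub_one, Bool.and_eq_true, decide_eq_true_eq, decide_eq_true_eq]
  omega

/-- counting points by bits -/
theorem card_bits {n U m : ℕ} {P : Fin n → Prop} (h : ∀ z : Fin n, P z ↔ U.testBit z = true)
    (hU : ∀ p, U.testBit p = true → p < n) (hm : {p : ℕ | U.testBit p = true}.ncard = m) :
    Nat.card {z : Fin n // P z} = m := by
  rw [← hm, ← Nat.card_coe_set_eq]
  exact Nat.card_congr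
    { toFun := fun z => ⟨(z.1 : ℕ), (h z.1).1 z.2⟩
      invFun := fun p => ⟨⟨p.1, hU p.1 p.2⟩, (h _).2 p.2⟩
      left_inv := fun z => rfl
      right_inv := fun p => rfl }

/-- adjacency in the Suzuki graph -/
def A (x y : Fin 1782) : Prop := (row x).testBit y = true

theorem row_lt : ∀ i j : ℕ, (row i).testBit j = true → j < 1782 := by
  intro i j h
  have h1 : (2 ^ 1782 - 1).testBit j = true := by
    have h2 : row i = ((blk (Nat.div i 99)) >>> (1782 * (i % 99))) &&& (2 ^ 1782 - 1) := rfl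
    rw [h2, Nat.testBit_and, Bool.and_eq_true] at h
    exact h.2
  rw [Nat.testBit_two_pow_sub_one, decide_eq_true_eq] at h1
  exact h1

/-- the action -/
@[reducible] noncomputable def act : MulAction Suz (Fin 1782) := MulAction.compHom (Fin 1782) ψ

theorem rank3 : letI := act; Rank3 Suz (Fin 1782) A 1782 416 100 96 := by
  letI := act
  have hsm : ∀ (g : Suz) (x : Fin 1782), g • x = ψ g x := fun g x => rfl
  have orb : ∀ {p₀ : ℕ} (hp₀ : p₀ < 1782) {V : ℕ} (_ : {p : ℕ | ∃ x ∈ Subgroup.closure S6, φ x p₀ = p} =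
      {p | V.testBit p = true}) (y : Fin 1782), V.testBit y = true →
      ∃ g : Suz, g • (0 : Fin 1782) = 0 ∧ g • (⟨p₀, hp₀⟩ : Fin 1782) = y := by
    intro p₀ hp₀ V h y hy
    have h1 : (y : ℕ) ∈ {p | V.testBit p = true} := hy
    rw [← h] at h1
    obtain ⟨g, hg, hgy⟩ := h1
    refine ⟨g, ?_, ?_⟩
    · apply Fin.ext
      rw [hsm, ψ_val]
      exact fix_S6 g hg
    · apply Fin.ext
      rw [hsm, ψ_val]
      exact hgy
  refine rank3_of_base (x₀ := 0) (y₁ := ⟨1366, by norm_num⟩) (y₂ := ⟨1, by norm_num⟩) ?_ ?_ ?_ ?_ ?_ ?_ ?_ ?_ ?_ ?_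
  · simp
  · intro x y h
    unfold A at h ⊢
    rw [symCheck_sound sym (lt_of_lt_of_le y.2 (by norm_num)) (lt_of_lt_of_le x.2 (by norm_num))]
    exact h
  · intro h
    have h1 : (row 0).testBit 0 = true := h
    rw [row0, U2_bits] at h1
    omega
  · intro g x y h
    exact (mem_Aut.1 (ψ_mem g) x y).trans h
  · intro x
    have h1 : (x : ℕ) ∈ {p | U0.testBit p = true} := by
      rw [Set.mem_ofPred_eq, U0_bits, decide_eq_true_eq]
      exact x.2
    rw [← orb0] at h1
    obtain ⟨g, -, hg⟩ := h1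
    exact ⟨g, Fin.ext hg⟩
  · intro y hy
    have h1 : (row 0).testBit y = true := hy
    rw [row0] at h1
    exact orb (by norm_num) orb2 y h1
  · intro y hne hy
    refine orb (by norm_num) orb1 y ?_
    have h1 : ¬ (row 0).testBit y = true := hy
    rw [row0, U2_bits] at h1
    rw [U1_bits]
    have h2 : (y : ℕ) ≠ 0 := fun h => hne (Fin.ext h.symm)
    have := y.2
    omega
  · refine card_bits (U := row 0) (fun z => Iff.rfl) (row_lt 0) ?_
    exact ncard_testBit (k := 11) (by decide +kernel) (by decide +kernel)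
  · refine card_bits (U := row 0 &&& row 1366) (fun z => ?_) (fun p hp => ?_) ?_
    · rw [Nat.testBit_and, Bool.and_eq_true]
      exact Iff.rfl
    · rw [Nat.testBit_and, Bool.and_eq_true] at hp
      exact row_lt 0 p hp.1
    · exact ncard_testBit (k := 11) (by decide +kernel) (by decide +kernel)
  · refine card_bits (U := row 0 &&& row 1) (fun z => ?_) (fun p hp => ?_) ?_
    · rw [Nat.testBit_and, Bool.and_eq_true]
      exact Iff.rfl
    · rw [Nat.testBit_and, Bool.and_eq_true] at hp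
      exact row_lt 0 p hp.1
    · exact ncard_testBit (k := 11) (by decide +kernel) (by decide +kernel)

/-- every automorphism is induced by a permutation of the points -/
theorem exists_perm (α : MulAut Suz) : ∃ P : Equiv.Perm (Fin 1782), ∀ g, ψ (α g) = P * ψ g * P⁻¹ := by
  obtain ⟨τ, hτ⟩ := exists_τ
  rcases Cfsg.Agent.KFacts.SuzOut.out_two τ α with ⟨n, hn⟩ | ⟨n, hn⟩ | ⟨n, hn⟩
  · exact absurd hn.symm (τ_outer hτ n)
  · refine ⟨ψ n, fun g => ?_⟩
    rw [← hn, MulAut.conj_apply, map_mul, map_mul, map_inv]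
  · refine ⟨T * ψ n, fun g => ?_⟩
    have h1 : α = τ * MulAut.conj n := by rw [hn]; group
    rw [h1, MulAut.mul_apply, hτ, MulAut.conj_apply, map_mul, map_mul, map_inv]
    group

/-- **The row `Suz`.** -/
theorem row {S : Type u} [Group S] (h : Cfsg.Spor.IsoSuz S) : EvenB S := by
  obtain ⟨e⟩ := h
  letI := act
  refine evenB_of_rank3' rank3 (by norm_num) (by norm_num) (by decide) (by decide) (by decide) (fun α => ?_) e.symm
  obtain ⟨p, hp⟩ := exists_perm α
  refine ⟨p, fun s x => ?_⟩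
  show ψ (α s) (p x) = p (ψ s x)
  rw [hp, Equiv.Perm.mul_apply, Equiv.Perm.mul_apply, show p⁻¹ (p x) = x from p.symm_apply_apply x]

end Cfsg.Agent.H689.EB.Suz
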