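import Cfsg.Agent.H689.EB.RankRow
import Cfsg.Agent.HN.AutHS

/-!
# TEAM EB: the row `HS` (helper689)
-/

set_option autoImplicit false

namespace Cfsg.Agent.H689.EB.HS

open Cfsg Cfsg.Agent.H684.EB
open Cfsg.Agent.SporadicA.PermTab Cfsg.Agent.HN.Pres Cfsg.Agent.HN.HS100 Cfsg.Agent.HN.SrgHS Equiv
open Cfsg.Agent.HN.AutBound Cfsg.Agent.HN.AutHS Cfsg.Agent.HN.FixPoint

universe u

theorem rank3 : Rank3 Q (Fin 100) (fun u v => ad u v = 1) 100 22 0 6 where
  card := by simp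
  symm x y h := by rw [ad_symm]; exact h
  irrefl x h := by rw [ad_self] at h; exact absurd h (by norm_num)
  inv g x y h := by
    show ad ((g : Perm (Fin 100)) x) ((g : Perm (Fin 100)) y) = 1
    rw [ad_map_Q g.2]
    exact h
  trans x y := by
    obtain ⟨g, hg, h⟩ := exists_map x y
    exact ⟨⟨g, hg⟩, h⟩
  orb1 x y x' y' h h' := by
    obtain ⟨g, hg, rfl⟩ := exists_map 0 x
    obtain ⟨g', hg', rfl⟩ := exists_map 0 x'
    obtain ⟨y, rfl⟩ := g.surjective y
    obtain ⟨y', rfl⟩ := g'.surjective y'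
    rw [ad_map_Q hg] at h
    rw [ad_map_Q hg'] at h'
    obtain ⟨k, hk, rfl⟩ := orb22 h
    obtain ⟨k', hk', rfl⟩ := orb22 h'
    refine ⟨⟨g' * k' * (g * k)⁻¹, Q.mul_mem (Q.mul_mem hg' hk'.1) (Q.inv_mem (Q.mul_mem hg hk.1))⟩, ?_, ?_⟩
    · show (g' * k' * (g * k)⁻¹) (g 0) = g' 0
      have h1 : (g * k) 0 = g 0 := by rw [Perm.mul_apply, hk.2]
      rw [← h1, Perm.mul_apply, show (g * k)⁻¹ ((g * k) 0) = 0 from (g * k).symm_apply_apply 0, Perm.mul_apply, hk'.2]
    · show (g' * k' * (g * k)⁻¹) (g (k 2)) = g' (k' 2)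
      rw [← Perm.mul_apply g k, Perm.mul_apply, show (g * k)⁻¹ ((g * k) 2) = 2 from (g * k).symm_apply_apply 2,
        Perm.mul_apply]
  orb2 x y x' y' hne h hne' h' := by
    obtain ⟨g, hg, rfl⟩ := exists_map 0 x
    obtain ⟨g', hg', rfl⟩ := exists_map 0 x'
    obtain ⟨y, rfl⟩ := g.surjective y
    obtain ⟨y', rfl⟩ := g'.surjective y'
    rw [ad_map_Q hg] at h
    rw [ad_map_Q hg'] at h'
    have h0 : ad 0 y = 0 := (ad_zero_or_one 0 y).resolve_right h
    have h0' : ad 0 y' = 0 := (ad_zero_or_one 0 y').resolve_right h'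
    obtain ⟨k, hk, rfl⟩ := orb77 (fun h1 => hne (by rw [h1])) h0
    obtain ⟨k', hk', rfl⟩ := orb77 (fun h1 => hne' (by rw [h1])) h0'
    refine ⟨⟨g' * k' * (g * k)⁻¹, Q.mul_mem (Q.mul_mem hg' hk'.1) (Q.inv_mem (Q.mul_mem hg hk.1))⟩, ?_, ?_⟩
    · show (g' * k' * (g * k)⁻¹) (g 0) = g' 0
      have h1 : (g * k) 0 = g 0 := by rw [Perm.mul_apply, hk.2]
      rw [← h1, Perm.mul_apply, show (g * k)⁻¹ ((g * k) 0) = 0 from (g * k).symm_apply_apply 0, Perm.mul_apply, hk'.2]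
    · show (g' * k' * (g * k)⁻¹) (g (k 1)) = g' (k' 1)
      rw [← Perm.mul_apply g k, Perm.mul_apply, show (g * k)⁻¹ ((g * k) 1) = 1 from (g * k).symm_apply_apply 1,
        Perm.mul_apply]
  deg x := by
    have h1 : ∀ w, ad x w = if ad x w = 1 then 1 else 0 := by
      intro w
      rcases ad_zero_or_one x w with h | h <;> simp [h]
    have h2 := deg x
    rw [Finset.sum_congr rfl fun w _ => h1 w, Finset.sum_boole] at h2
    rw [Nat.card_eq_fintype_card, Fintype.card_subtype]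
    simpa using h2
  lam_eq x y h := by
    have : IsEmpty {z // ad x z = 1 ∧ ad y z = 1} := ⟨fun z => no_triangle h z.2.1 z.2.2⟩
    exact Nat.card_of_isEmpty
  mu_eq x y hne h := by
    have h0 : ad x y = 0 := (ad_zero_or_one x y).resolve_right h
    have h1 : ∀ w, ad x w * ad y w = if ad x w = 1 ∧ ad y w = 1 then 1 else 0 := by
      intro w
      rcases ad_zero_or_one x w with h | h <;> rcases ad_zero_or_one y w with h' | h' <;> simp [h, h']
    have h2 := srg x y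
    rw [h0, mul_zero, add_zero, if_neg (Ne.symm hne), Finset.sum_congr rfl fun w _ => h1 w, Finset.sum_boole] at h2
    rw [Nat.card_eq_fintype_card, Fintype.card_subtype]
    simpa using h2

/-- **The row `HS`.** -/
theorem row {S : Type u} [Group S] (h : Cfsg.Spor.IsoHS S) : EvenB S := by
  obtain ⟨e⟩ := h
  obtain ⟨f⟩ := nonempty_Q.1
  refine evenB_of_rank3' rank3 (by norm_num) (by norm_num) (by decide) (by decide) (by decide) (fun α => ?_)
    (f.trans e.symm)
  obtain ⟨p, -, hp⟩ := exists_perm α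
  refine ⟨p, fun s x => ?_⟩
  show ((α s : Q) : Perm (Fin 100)) (p x) = p ((s : Perm (Fin 100)) x)
  rw [hp, Perm.mul_apply, Perm.mul_apply, show p⁻¹ (p x) = x from p.symm_apply_apply x]

end Cfsg.Agent.H689.EB.HS
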