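import Cfsg.Agent.H689.EB.RankRow
import Cfsg.Agent.OddHalf.Table.OutJ2

/-!
# TEAM EB: the row `J₂` (helper689)
-/

set_option autoImplicit false
set_option maxRecDepth 100000
set_option linter.style.haveILetI false

namespace Cfsg.Agent.H689.EB.JTwo

open Cfsg Cfsg.Agent.H684.EB Cfsg.Agent.H689.EB
open Equiv Cfsg.Agent.SporadicA.PermTab Cfsg.Agent.SporadicA.PermRank3 Cfsg.Agent.SporadicA.J2Data
  Cfsg.Agent.SporadicA.J2Hundred Cfsg.Agent.OddHalf.Table Cfsg.Agent.OddHalf.Table.OutJ2 Cfsg.Agent.OddHalf.Table.CentTab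

universe u

/-- adjacency in the Hall-Janko graph -/
def A (x y : Fin 100) : Prop := bitM 100 adj x y = 1

/-- symmetry -/
theorem symm_chk : allB (fun i => allB (fun j => Nat.beq (bitM 100 adj i j) (bitM 100 adj j i)) 100) 100 = true := by
  decide +kernel

/-- the neighbours of the first point have a code in `c1` -/
theorem nb_chk : allB (fun j => cond (Nat.beq (bitM 100 adj 0 j) 1) (nbeq (lk c1 j) 2047) true) 100 = true := by
  decide +kernel
/-- the other points have a code in `c1b` -/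
theorem nb_chk' : allB (fun j => cond (Nat.beq j 0) true
    (cond (Nat.beq (bitM 100 adj 0 j) 1) true (nbeq (lk c1b j) 2047))) 100 = true := by
  decide +kernel

theorem cnt_deg : cntB (fun j => Nat.beq (bitM 100 adj 0 j) 1) 100 36 = true := by decide +kernel
theorem cnt_lam : cntB (fun j => band (Nat.beq (bitM 100 adj 0 j) 1) (Nat.beq (bitM 100 adj 13 j) 1)) 100 14 = true := by
  decide +kernel
theorem cnt_mu : cntB (fun j => band (Nat.beq (bitM 100 adj 0 j) 1) (Nat.beq (bitM 100 adj 1 j) 1)) 100 12 = true := by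
  decide +kernel

theorem beq_one (n : ℕ) : Nat.beq n 1 = true ↔ n = 1 := by rw [Nat.beq_eq]

theorem beq_false {m n : ℕ} (h : m ≠ n) : Nat.beq m n = false := by
  rw [← Bool.not_eq_true]
  exact fun h' => h (Nat.eq_of_beq_eq_true h')

theorem rank3 : Rank3 G (Fin 100) A 100 36 14 12 := by
  classical
  refine rank3_of_base (x₀ := x0) (y₁ := x1) (y₂ := x2) ?_ ?_ ?_ ?_ ?_ ?_ ?_ ?_ ?_ ?_
  · simp
  · intro x y h
    have h1 := (allB_iff _ _).1 ((allB_iff _ _).1 symm_chk x x.2) y y.2
    have h2 := Nat.eq_of_beq_eq_true h1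
    exact h2.symm.trans h
  · intro h
    have h1 : bitM 100 adj 0 0 = 1 := h
    exact absurd h1 (by decide +kernel)
  · intro g x y h
    exact (aut_le g.2 x y).trans h
  · intro x
    obtain ⟨g, hg, h⟩ := trans x
    exact ⟨⟨g, hg⟩, h⟩
  · intro y hy
    have h1 := (allB_iff _ _).1 nb_chk y y.2
    rw [(beq_one _).2 (show bitM 100 adj 0 y = 1 from hy), cond_true, nbeq_iff] at h1
    obtain ⟨g, hg, h⟩ := orb_of_chk psu0 (mem2 psu0 psu1) or1 y h1
    exact ⟨⟨g, hg.1⟩, hg.2, h⟩
  · intro y hne hy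
    have h1 := (allB_iff _ _).1 nb_chk' y y.2
    rw [beq_false (show (y : ℕ) ≠ 0 from fun h => hne (Fin.ext h.symm)), cond_false,
      beq_false (show bitM 100 adj 0 y ≠ 1 from hy), cond_false, nbeq_iff] at h1
    obtain ⟨g, hg, h⟩ := orb_of_chk psu0 (mem2 psu0 psu1) or1b y h1
    exact ⟨⟨g, hg.1⟩, hg.2, h⟩
  · rw [Nat.card_eq_fintype_card, Fintype.card_subtype, ← card_fin_of_cntB _ 100 36 cnt_deg]
    refine congrArg Finset.card (Finset.filter_congr fun z _ => ?_)
    exact (beq_one _).symm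
  · rw [Nat.card_eq_fintype_card, Fintype.card_subtype, ← card_fin_of_cntB _ 100 14 cnt_lam]
    refine congrArg Finset.card (Finset.filter_congr fun z _ => ?_)
    rw [band_eq_true, beq_one, beq_one]
    exact Iff.rfl
  · rw [Nat.card_eq_fintype_card, Fintype.card_subtype, ← card_fin_of_cntB _ 100 12 cnt_mu]
    refine congrArg Finset.card (Finset.filter_congr fun z _ => ?_)
    rw [band_eq_true, beq_one, beq_one]
    exact Iff.rfl

theorem uy : u * y = f ^ 3 * y * u := by
  have h := pw_eq gen_val (L := [8, 7]) (M := [6, 6, 6, 7, 8]) (by decide +kernel)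
  simpa only [pw_cons, pw_nil, mul_one, pow_succ, pow_zero, one_mul, mul_assoc] using h

/-- every automorphism is induced by a permutation of the points -/
theorem exists_perm (α : MulAut G) : ∃ P : Perm (Fin 100), ∀ g : G, ((α g : G) : Perm (Fin 100)) = P * g * P⁻¹ := by
  have hfin : Finite G := inferInstance
  obtain ⟨g, k, hk, h3, h4⟩ := CycNorm.exists_normal (X := G) (p := 7) (m := 3) (by norm_num) (x := ⟨x, x_mem⟩)
    (f := ⟨f, f_mem⟩) (by rw [Subgroup.orderOf_mk]; exact order_x) (by rw [card_G]; norm_num)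
    (by
      rintro ⟨c, hc⟩ h
      obtain ⟨i, hi⟩ := cent_x hc (congrArg Subtype.val h)
      exact ⟨i, Subtype.ext hi⟩)
    (Subtype.ext fx) (by decide) [1] (by decide) α
  have hk1 : k = 1 := by simpa using hk
  subst hk1
  rw [pow_one] at h4
  have key : ∀ P : Perm (Fin 100), P * x * P⁻¹ = x → P * f * P⁻¹ = f →
      ((((MulAut.conj g * α) ⟨y, y_mem⟩ : G) : Perm (Fin 100)) = P * y * P⁻¹) →
      ∀ s : G, (((MulAut.conj g * α) s : G) : Perm (Fin 100)) = P * s * P⁻¹ := by
    intro P hx hf hy s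
    let H : Subgroup G := MonoidHom.eqLocus (G.subtype.comp (MulAut.conj g * α).toMonoidHom)
      ((MulAut.conj P).toMonoidHom.comp G.subtype)
    have hH : s ∈ H := by
      have h1 : H = ⊤ := by
        rw [eq_top_iff, ← closure_eq, Subgroup.closure_le]
        rintro t (rfl | rfl | rfl)
        · exact (congrArg Subtype.val h4).trans hx.symm
        · exact (congrArg Subtype.val h3).trans hf.symm
        · exact hy
      rw [h1]
      trivial
    exact hH
  have fin : ∀ P : Perm (Fin 100), (∀ s : G, (((MulAut.conj g * α) s : G) : Perm (Fin 100)) = P * s * P⁻¹) →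
      ∃ P : Perm (Fin 100), ∀ g : G, ((α g : G) : Perm (Fin 100)) = P * g * P⁻¹ := by
    intro P hP
    refine ⟨(g : Perm (Fin 100))⁻¹ * P, fun s => ?_⟩
    have h1 : (g : Perm (Fin 100)) * (α s : G) * (g : Perm (Fin 100))⁻¹ = P * s * P⁻¹ := hP s
    have h2 : ((α s : G) : Perm (Fin 100)) = (g : Perm (Fin 100))⁻¹ * (P * s * P⁻¹) * g := by
      rw [← h1]; group
    rw [h2]; group
  have ux' : u * x * u⁻¹ = x := by rw [ux]; group
  have uf' : u * f * u⁻¹ = f := by rw [uf]; group
  rcases CycNorm.two_cases (X := G) (f := ⟨f, f_mem⟩) (y := ⟨y, y_mem⟩) (N := 3)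
    (by rw [Subgroup.orderOf_mk]; exact order_f) (Subtype.ext y2) (Subtype.ext yf)
    (fun i h => y_ne_pow i (congrArg Subtype.val h))
    (by
      rintro ⟨c, hc⟩ h
      obtain ⟨i, hi | hi⟩ := cent_f hc (congrArg Subtype.val h)
      · exact ⟨i, Or.inl (Subtype.ext hi)⟩
      · exact ⟨i, Or.inr (Subtype.ext hi)⟩)
    (MulAut.conj g * α) h3 with h | h
  · refine fin 1 (key 1 (by group) (by group) ?_)
    rw [h]
    group
  · refine fin u (key u ux' uf' ?_)
    rw [h, uy]
    show f ^ 3 * y = _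
    group

/-- **The row `J₂`.** -/
theorem row {S : Type u} [Group S] (h : Cfsg.Spor.IsoJ2 S) : EvenB S := by
  obtain ⟨e⟩ := h
  obtain ⟨f⟩ := Cfsg.Agent.J2.HundredGens.J2_iso Cfsg.Agent.S1619.result.2.2.2
  refine evenB_of_rank3' rank3 (by norm_num) (by norm_num) (by decide) (by decide) (by decide) (fun α => ?_)
    (e.trans f).symm
  obtain ⟨p, hp⟩ := exists_perm α
  refine ⟨p, fun s x => ?_⟩
  show ((α s : G) : Perm (Fin 100)) (p x) = p ((s : Perm (Fin 100)) x)
  rw [hp, Perm.mul_apply, Perm.mul_apply, show p⁻¹ (p x) = x from p.symm_apply_apply x]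

end Cfsg.Agent.H689.EB.JTwo
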