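import Cfsg.Agent.H684.EB.Base
import Cfsg.Agent.H610.EB.DRed

/-!
# TEAM EB: rows from an action of `S` extended by all automorphisms (helper689)

* `evenB_of_action` : `S` acts on the finite set `X`; point stabilizers are contained in no other point stabilizer; every
  automorphism of `S` is induced by a permutation of `X`; `|X| + rank` is odd; the constituents of the permutation character
  are in the principal 2-block (this is asked for all isomorphic copies of `S`). Then `EvenB S`.
-/

set_option autoImplicit false
set_option linter.style.haveILetI false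

namespace Cfsg.Agent.H689.EB

open Cfsg Cfsg.Agent.H610.EB Cfsg.Agent.H694 Cfsg.Agent.H684.EB
open MulAction (stabilizer orbitRel)

universe u v

/-- the action of an isomorphic copy -/
@[reducible] def actE {S : Type*} [Group S] {N : Type*} [Group N] (e : S ≃* N) (X : Type v) [MulAction S X] :
    MulAction N X :=
  MulAction.compHom X e.symm.toMonoidHom

section

variable {N : Type u} [Group N] {X : Type v} [MulAction N X]

/-- the set of the point stabilizers -/
def stabs (N : Type u) [Group N] (X : Type v) [MulAction N X] : Set (Subgroup N) := Set.range (stabilizer N : X → Subgroup N)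

theorem map_conj_stabilizer (g : N) (x : X) :
    (stabilizer N x).map (MulAut.conj g).toMonoidHom = stabilizer N (g • x) := by
  ext s
  constructor
  · rintro ⟨t, ht, rfl⟩
    have ht' : t • x = x := ht
    show (g * t * g⁻¹) • g • x = g • x
    rw [mul_smul, mul_smul, inv_smul_smul, ht']
  · intro hs
    have hs' : s • g • x = g • x := hs
    refine ⟨g⁻¹ * s * g, ?_, ?_⟩
    · show (g⁻¹ * s * g) • x = x
      rw [mul_smul, mul_smul, hs', inv_smul_smul]
    · show g * (g⁻¹ * s * g) * g⁻¹ = s
      group

theorem stabs_conj (g : N) : ∀ H ∈ stabs N X, H.map (MulAut.conj g).toMonoidHom ∈ stabs N X := by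
  rintro _ ⟨x, rfl⟩
  exact ⟨g • x, (map_conj_stabilizer g x).symm⟩

/-- points and stabilizers -/
noncomputable def stabsEquiv (h : ∀ x y : X, stabilizer N x ≤ stabilizer N y → x = y) : X ≃ stabs N X :=
  Equiv.ofInjective _ fun x y hxy => h x y (le_of_eq hxy)

theorem stabsEquiv_coe (h : ∀ x y : X, stabilizer N x ≤ stabilizer N y → x = y) (x : X) :
    ((stabsEquiv h x : stabs N X) : Subgroup N) = stabilizer N x := rfl

theorem permS_stabs (h : ∀ x y : X, stabilizer N x ≤ stabilizer N y → x = y) : permS (stabs N X) = permC N X := by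
  funext s
  rw [permS, permC]
  congr 1
  refine (Nat.card_eq_of_bijective (fun x : MulAction.fixedBy X s =>
    (⟨stabilizer N (x : X), ⟨x, rfl⟩, by rw [map_conj_stabilizer, x.2]⟩ :
      {H : Subgroup N // H ∈ stabs N X ∧ H.map (MulAut.conj s).toMonoidHom = H})) ⟨?_, ?_⟩).symm
  · intro x y hxy
    exact Subtype.ext (h _ _ (le_of_eq (congrArg Subtype.val hxy)))
  · rintro ⟨_, ⟨x, rfl⟩, hx⟩
    rw [map_conj_stabilizer] at hx
    exact ⟨⟨x, h _ _ (le_of_eq hx)⟩, rfl⟩

theorem card_pairRel (h : ∀ x y : X, stabilizer N x ≤ stabilizer N y → x = y) :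
    Nat.card (Quotient (pairRel (stabs N X) (stabs N X))) = Nat.card (orbitRel.Quotient N (X × X)) := by
  refine Nat.card_congr (Quotient.congr ((stabsEquiv h).prodCongr (stabsEquiv h)) ?_).symm
  rintro ⟨x, y⟩ ⟨x', y'⟩
  show (orbitRel N (X × X)) (x, y) (x', y') ↔ _
  rw [MulAction.orbitRel_apply]
  constructor
  · rintro ⟨g, hg⟩
    apply (pairRel _ _).symm
    have h1 : g • x' = x := congrArg Prod.fst hg
    have h2 : g • y' = y := congrArg Prod.snd hg
    refine ⟨g, ?_, ?_⟩
    · show (stabilizer N x').map (MulAut.conj g).toMonoidHom = stabilizer N x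
      rw [map_conj_stabilizer, h1]
    · show (stabilizer N y').map (MulAut.conj g).toMonoidHom = stabilizer N y
      rw [map_conj_stabilizer, h2]
  · intro h5
    obtain ⟨g, h6, h7⟩ := (pairRel _ _).symm h5
    have h6' : (stabilizer N x').map (MulAut.conj g).toMonoidHom = stabilizer N x := h6
    have h7' : (stabilizer N y').map (MulAut.conj g).toMonoidHom = stabilizer N y := h7
    rw [map_conj_stabilizer] at h6' h7'
    exact ⟨g, Prod.ext (h _ _ (le_of_eq h6')) (h _ _ (le_of_eq h7'))⟩

end

/-- **Rows from an action.** -/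
theorem evenB_of_action {S : Type u} [Group S] {X : Type v} [Finite X] [MulAction S X]
    (hinj : ∀ x y : X, stabilizer S x ≤ stabilizer S y → x = y)
    (haut : ∀ α : S ≃* S, ∃ p : Equiv.Perm X, ∀ (s : S) (x : X), α s • p x = p (s • x))
    (hodd : Odd (Nat.card X + Nat.card (orbitRel.Quotient S (X × X))))
    (hmem : ∀ (N : Type u) [Group N] [Fintype N] (e : S ≃* N) (M : Ideal AlgInt), IsPModular 2 M → ∀ χ : IrrCharacter N,
      (letI := actE e X; classInner (permC N X) (χ : N → ℂ) ≠ 0) → χ ∈ principalBlock M N) : EvenB S := by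
  intro G _ _ N _ _ f hC hidx k hk M hM
  obtain ⟨e⟩ := f
  letI := actE e X
  have hsm : ∀ (n : N) (x : X), n • x = e.symm n • x := fun _ _ => rfl
  have hinj' : ∀ x y : X, stabilizer N x ≤ stabilizer N y → x = y := by
    intro x y h
    apply hinj x y
    intro s hs
    have h1 : e s ∈ stabilizer N x := by
      show e.symm (e s) • x = x
      rw [MulEquiv.symm_apply_apply]
      exact hs
    have h2 : e.symm (e s) • y = y := h h1
    rwa [MulEquiv.symm_apply_apply] at h2
  refine concl_of_set hM N hidx hk (stabs N X) ?_ ?_ ?_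
  · rintro g _ ⟨x, rfl⟩
    let α : S ≃* S := (e.trans (MulAut.conjNormal g : MulAut N)).trans e.symm
    obtain ⟨p, hp⟩ := haut α
    refine ⟨p x, ?_⟩
    ext n
    constructor
    · intro hn
      have hn' : e.symm n • p x = p x := hn
      refine ⟨e (α.symm (e.symm n)), ?_, ?_⟩
      · show e.symm (e (α.symm (e.symm n))) • x = x
        rw [MulEquiv.symm_apply_apply]
        apply p.injective
        rw [← hp, MulEquiv.apply_symm_apply, hn']
      · have h1 : e.symm ((MulAut.conjNormal g : MulAut N) (e (α.symm (e.symm n)))) = e.symm n :=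
          α.apply_symm_apply (e.symm n)
        exact e.symm.injective h1
    · rintro ⟨t, ht, rfl⟩
      have ht' : e.symm t • x = x := ht
      show e.symm ((MulAut.conjNormal g : MulAut N) t) • p x = p x
      have h1 : α (e.symm t) = e.symm ((MulAut.conjNormal g : MulAut N) t) := by
        show e.symm ((MulAut.conjNormal g : MulAut N) (e (e.symm t))) = _
        rw [MulEquiv.apply_symm_apply]
      rw [← h1, hp, ht']
  · intro φ hφ1 hφ2 hφ3
    refine hmem N e M hM φ ?_
    show classInner (permC N X) (φ : N → ℂ) ≠ 0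
    rw [permS_stabs hinj'] at hφ3
    intro h0
    rw [mu, h0] at hφ3
    simp at hφ3
  · rw [← Nat.card_congr (stabsEquiv hinj'), card_pairRel hinj']
    have h1 : Nat.card (orbitRel.Quotient N (X × X)) = Nat.card (orbitRel.Quotient S (X × X)) := by
      refine Nat.card_congr (Quotient.congr (Equiv.refl _) fun x y => ?_)
      rw [Equiv.refl_apply, Equiv.refl_apply]
      show (orbitRel N (X × X)) x y ↔ (orbitRel S (X × X)) x y
      rw [MulAction.orbitRel_apply, MulAction.orbitRel_apply]
      constructor
      · rintro ⟨n, hn⟩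
        exact ⟨e.symm n, hn⟩
      · rintro ⟨s, hs⟩
        refine ⟨e s, ?_⟩
        rw [← hs]
        refine Prod.ext ?_ ?_
        · show e.symm (e s) • y.1 = s • y.1
          rw [MulEquiv.symm_apply_apply]
        · show e.symm (e s) • y.2 = s • y.2
          rw [MulEquiv.symm_apply_apply]
    rwa [h1]

end Cfsg.Agent.H689.EB
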