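import Cfsg.Agent.H305.EB.RankThree

/-!
# TEAM EB: rank 3 graphs (helper689)

The structure `Rank3` (form of the plan of TEAM EB), `Rank3.mem'` = criterion (E), `Rank3.exists'`; everything from
helper305's theorems for the structure `R3` of helper690.
-/

set_option autoImplicit false

namespace Cfsg.Agent.H689.EB

open Cfsg Cfsg.Agent.H690.Spor.RankThree Cfsg.Agent.H610.EB Cfsg.Agent.H694 Cfsg.Agent.H694.EB

universe u v

/-- `S` acts on `X` with rank 3, `A` is one of the two nontrivial orbitals (self-paired), of valency `k`;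
`lam`, `mu` are the numbers of common neighbours. -/
structure Rank3 (S : Type u) [Group S] (X : Type v) [MulAction S X] (A : X → X → Prop) (n k lam mu : ℕ) : Prop where
  card : Nat.card X = n
  symm : ∀ x y, A x y → A y x
  irrefl : ∀ x, ¬ A x x
  inv : ∀ (g : S) x y, A x y → A (g • x) (g • y)
  trans : ∀ x y : X, ∃ g : S, g • x = y
  orb1 : ∀ x y x' y', A x y → A x' y' → ∃ g : S, g • x = x' ∧ g • y = y'
  orb2 : ∀ x y x' y', x ≠ y → ¬ A x y → x' ≠ y' → ¬ A x' y' → ∃ g : S, g • x = x' ∧ g • y = y'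
  deg : ∀ x, Nat.card {y // A x y} = k
  lam_eq : ∀ x y, A x y → Nat.card {z // A x z ∧ A y z} = lam
  mu_eq : ∀ x y, x ≠ y → ¬ A x y → Nat.card {z // A x z ∧ A y z} = mu

variable {S : Type u} [Group S] {X : Type v} [MulAction S X] {A : X → X → Prop} {n k lam mu : ℕ}

/-- the structure of helper690 -/
theorem Rank3.toR3 (h : Rank3 S X A n k lam mu) (hk : 0 < k) (hkn : k + 1 < n) : R3 S X A k (n - 1 - k) where
  trans := ⟨h.trans⟩
  symm := h.symm
  irr := h.irrefl
  inv := h.inv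
  one := h.orb1
  two := h.orb2
  cardk := h.deg
  k0 := hk
  l0 := by omega
  cardn := by rw [h.card]; omega

theorem com_eq (hs : ∀ x y, A x y → A y x) (x y : X) : R3.com A x y = Nat.card {z // A x z ∧ A y z} :=
  Nat.card_congr (Equiv.subtypeEquivRight fun _ => ⟨fun h => ⟨h.1, hs _ _ h.2⟩, fun h => ⟨h.1, hs _ _ h.2⟩⟩)

/-- **Criterion (E)**, nondegenerate. -/
theorem Rank3.mem' [Fintype S] [Fintype X] (h : Rank3 S X A n k lam mu) (hk : 0 < k) (hkn : k + 1 < n)
    {M : Ideal AlgInt} (hM : IsPModular 2 M) (hn : Even n) (hl : Even lam) (hm : Even mu)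
    (χ : IrrCharacter S) (hχ : classInner (permC S X) (χ : S → ℂ) ≠ 0) : χ ∈ principalBlock M S := by
  classical
  have h3 := h.toR3 hk hkn
  refine H305.EB.mem_of_R3 h3 (a := lam) (b := mu) hl hm ?_ (fun x y => ?_) hM χ hχ
  · obtain ⟨m, hm⟩ := hn
    exact ⟨m - 1, by omega⟩
  · rw [R3.sum_mul]
    by_cases hxy : x = y
    · subst hxy
      rw [h3.com_self, R3.dia, R3.adj, if_pos rfl, if_neg (h.irrefl x)]
      ring
    · rw [com_eq h.symm, R3.dia, R3.adj, if_neg hxy]
      by_cases hA : A x y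
      · rw [h.lam_eq x y hA, if_pos hA]
        ring
      · rw [h.mu_eq x y hxy hA, if_neg hA]
        ring

/-- `lam`, `mu` from the subdegrees. -/
theorem Rank3.exists [Fintype S] [Fintype X] (A : X → X → Prop) (n k : ℕ)
    (card : Nat.card X = n) (symm : ∀ x y, A x y → A y x) (irrefl : ∀ x, ¬ A x x)
    (inv : ∀ (g : S) x y, A x y → A (g • x) (g • y)) (trans : ∀ x y : X, ∃ g : S, g • x = y)
    (orb1 : ∀ x y x' y', A x y → A x' y' → ∃ g : S, g • x = x' ∧ g • y = y')
    (orb2 : ∀ x y x' y', x ≠ y → ¬ A x y → x' ≠ y' → ¬ A x' y' → ∃ g : S, g • x = x' ∧ g • y = y')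
    (deg : ∀ x, Nat.card {y // A x y} = k) (hk : 0 < k) (hkn : k + 1 < n) (heven : Even n) :
    ∃ lam mu : ℕ, Rank3 S X A n k lam mu ∧ k * (k - 1 - lam) = (n - 1 - k) * mu ∧ lam + 1 ≤ k ∧
      IsSquare (((lam : ℤ) - mu) ^ 2 + 4 * ((k : ℤ) - mu)) := by
  classical
  have h3 : R3 S X A k (n - 1 - k) := ⟨⟨trans⟩, symm, irrefl, inv, orb1, orb2, deg, hk, by omega, by rw [card]; omega⟩
  obtain ⟨a, b, hab⟩ := h3.exists_params
  have hp := h3.params_eq hab
  have hle : a + 1 ≤ k := by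
    by_contra hcon
    have h1 : k * k ≤ k * a := Nat.mul_le_mul_left k (by omega)
    omega
  obtain ⟨χ₁, χ₂, f, g, D, hf, hg, hval, hfg, -, hD, hsq⟩ := H305.EB.frame_ab h3 hab
  have hne : f ≠ g := by
    rintro rfl
    obtain ⟨m, hm⟩ := heven
    omega
  refine ⟨a, b, ⟨card, symm, irrefl, inv, trans, orb1, orb2, deg, fun x y hA => ?_, fun x y hne hA => ?_⟩, ?_, hle, ?_⟩
  · have h1 := hab x y
    rw [R3.sum_mul, R3.dia, R3.adj, if_pos hA, if_neg (fun hxy => irrefl x (by rwa [← hxy] at hA)),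
      com_eq symm] at h1
    have h2 : ((Nat.card {z // A x z ∧ A y z} : ℕ) : ℂ) = (a : ℂ) := by rw [h1]; ring
    exact_mod_cast h2
  · have h1 := hab x y
    rw [R3.sum_mul, R3.dia, R3.adj, if_neg hA, if_neg hne, com_eq symm] at h1
    have h2 : ((Nat.card {z // A x z ∧ A y z} : ℕ) : ℂ) = (b : ℂ) := by rw [h1]; ring
    exact_mod_cast h2
  · have h1 : k * (k - 1 - a) + (k + k * a) = k * k := by
      obtain ⟨c, rfl⟩ := Nat.exists_eq_add_of_le hle
      rw [show a + 1 + c - 1 - a = c by omega]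
      ring
    omega
  · obtain ⟨c, hc⟩ := hsq hne
    exact ⟨c, by rw [← hD, hc, sq]⟩

end Cfsg.Agent.H689.EB
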