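import Cfsg.Agent.H689.EB.ActRow
import Cfsg.Agent.H689.EB.RankThree

/-!
# TEAM EB: rank 3 rows (helper689)
-/

set_option autoImplicit false
set_option linter.style.haveILetI false

namespace Cfsg.Agent.H689.EB

open Cfsg Cfsg.Agent.H610.EB Cfsg.Agent.H694 Cfsg.Agent.H684.EB
open MulAction (stabilizer orbitRel)

universe u v

variable {S : Type u} [Group S] {X : Type v} [Finite X] [MulAction S X] {A : X → X → Prop} {n k lam mu : ℕ}

omit [Finite X] in
/-- a rank 3 graph from the data at one point -/
theorem rank3_of_base {x₀ y₁ y₂ : X} (card : Nat.card X = n) (symm : ∀ x y, A x y → A y x) (irrefl : ¬ A x₀ x₀)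
    (inv : ∀ (g : S) x y, A x y → A (g • x) (g • y)) (trans : ∀ x : X, ∃ g : S, g • x₀ = x)
    (orb1 : ∀ y, A x₀ y → ∃ g : S, g • x₀ = x₀ ∧ g • y₁ = y)
    (orb2 : ∀ y, x₀ ≠ y → ¬ A x₀ y → ∃ g : S, g • x₀ = x₀ ∧ g • y₂ = y) (deg : Nat.card {z // A x₀ z} = k)
    (hlam : Nat.card {z // A x₀ z ∧ A y₁ z} = lam) (hmu : Nat.card {z // A x₀ z ∧ A y₂ z} = mu) :
    Rank3 S X A n k lam mu := by
  have hinv : ∀ (g : S) (x y : X), A (g • x) (g • y) ↔ A x y := by
    intro g x y
    refine ⟨fun h1 => ?_, inv g x y⟩
    have h2 := inv g⁻¹ _ _ h1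
    rwa [inv_smul_smul, inv_smul_smul] at h2
  have pair : ∀ {x y : X} {P : X → X → Prop} (_ : ∀ (g : S) x y, P (g • x) (g • y) ↔ P x y) {y' : X}
      (_ : ∀ y, P x₀ y → ∃ g : S, g • x₀ = x₀ ∧ g • y' = y), P x y → ∃ g : S, g • x₀ = x ∧ g • y' = y := by
    intro x y P hP y' h1 h2
    obtain ⟨g, rfl⟩ := trans x
    have h3 : P x₀ (g⁻¹ • y) := by
      rw [← hP g, smul_inv_smul]
      exact h2
    obtain ⟨j, hj1, hj2⟩ := h1 _ h3
    exact ⟨g * j, by rw [mul_smul, hj1], by rw [mul_smul, hj2, smul_inv_smul]⟩
  have hinv2 : ∀ (g : S) (x y : X), (g • x ≠ g • y ∧ ¬ A (g • x) (g • y)) ↔ (x ≠ y ∧ ¬ A x y) := by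
    intro g x y
    rw [hinv, Ne, smul_left_cancel_iff]
  have pair1 : ∀ {x y : X}, A x y → ∃ g : S, g • x₀ = x ∧ g • y₁ = y := fun h => pair hinv orb1 h
  have pair2 : ∀ {x y : X}, x ≠ y → ¬ A x y → ∃ g : S, g • x₀ = x ∧ g • y₂ = y := fun h h' =>
    pair (P := fun x y => x ≠ y ∧ ¬ A x y) hinv2 (fun y hy => orb2 y hy.1 hy.2) ⟨h, h'⟩
  have cnt : ∀ (g : S) (y : X), Nat.card {z // A (g • x₀) z ∧ A (g • y) z} = Nat.card {z // A x₀ z ∧ A y z} := by
    intro g y
    refine Nat.card_congr
      { toFun := fun z => ⟨g⁻¹ • z.1, ?_⟩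
        invFun := fun z => ⟨g • z.1, (hinv _ _ _).2 z.2.1, (hinv _ _ _).2 z.2.2⟩
        left_inv := fun z => Subtype.ext (smul_inv_smul g z.1)
        right_inv := fun z => Subtype.ext (inv_smul_smul g z.1) }
    constructor
    · rw [← hinv g, smul_inv_smul]
      exact z.2.1
    · rw [← hinv g, smul_inv_smul]
      exact z.2.2
  exact
    { card := card
      symm := symm
      irrefl := fun x => by
        obtain ⟨g, rfl⟩ := trans x
        rw [hinv]
        exact irrefl
      inv := inv
      trans := fun x y => by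
        obtain ⟨g, rfl⟩ := trans x
        obtain ⟨j, rfl⟩ := trans y
        exact ⟨j * g⁻¹, by rw [mul_smul, inv_smul_smul]⟩
      orb1 := fun x y x' y' h1 h2 => by
        obtain ⟨g, rfl, rfl⟩ := pair1 h1
        obtain ⟨j, rfl, rfl⟩ := pair1 h2
        exact ⟨j * g⁻¹, by rw [mul_smul, inv_smul_smul], by rw [mul_smul, inv_smul_smul]⟩
      orb2 := fun x y x' y' h1 h2 h3 h4 => by
        obtain ⟨g, rfl, rfl⟩ := pair2 h1 h2
        obtain ⟨j, rfl, rfl⟩ := pair2 h3 h4
        exact ⟨j * g⁻¹, by rw [mul_smul, inv_smul_smul], by rw [mul_smul, inv_smul_smul]⟩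
      deg := fun x => by
        obtain ⟨g, rfl⟩ := trans x
        rw [← deg]
        refine Nat.card_congr
          { toFun := fun z => ⟨g⁻¹ • z.1, ?_⟩
            invFun := fun z => ⟨g • z.1, (hinv _ _ _).2 z.2⟩
            left_inv := fun z => Subtype.ext (smul_inv_smul g z.1)
            right_inv := fun z => Subtype.ext (inv_smul_smul g z.1) }
        rw [← hinv g, smul_inv_smul]
        exact z.2
      lam_eq := fun x y h => by
        obtain ⟨g, rfl, rfl⟩ := pair1 h
        rw [cnt, hlam]
      mu_eq := fun x y h h' => by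
        obtain ⟨g, rfl, rfl⟩ := pair2 h h'
        rw [cnt, hmu] }

omit [Finite X] in
/-- transport to an isomorphic copy -/
theorem rank3_actE (h : Rank3 S X A n k lam mu) {N : Type*} [Group N] (e : S ≃* N) :
    letI := actE e X
    Rank3 N X A n k lam mu := by
  letI := actE e X
  have hs : ∀ (s : S) (x : X), e s • x = s • x := by
    intro s x
    show e.symm (e s) • x = s • x
    rw [MulEquiv.symm_apply_apply]
  exact
    { card := h.card
      symm := h.symm
      irrefl := h.irrefl
      inv := fun g x y hxy => h.inv (e.symm g) x y hxy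
      trans := fun x y => by
        obtain ⟨g, hg⟩ := h.trans x y
        exact ⟨e g, by rw [hs, hg]⟩
      orb1 := fun x y x' y' h1 h2 => by
        obtain ⟨g, hg1, hg2⟩ := h.orb1 x y x' y' h1 h2
        exact ⟨e g, by rw [hs, hg1], by rw [hs, hg2]⟩
      orb2 := fun x y x' y' h1 h2 h3 h4 => by
        obtain ⟨g, hg1, hg2⟩ := h.orb2 x y x' y' h1 h2 h3 h4
        exact ⟨e g, by rw [hs, hg1], by rw [hs, hg2]⟩
      deg := h.deg
      lam_eq := h.lam_eq
      mu_eq := h.mu_eq }

/-- a point stabilizer is contained in no other point stabilizer -/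
theorem Rank3.inj (h : Rank3 S X A n k lam mu) (hk : 1 < k) (hkn : k + 2 < n) (x y : X)
    (hxy : stabilizer S x ≤ stabilizer S y) : x = y := by
  classical
  have := Fintype.ofFinite X
  by_contra hne
  by_cases hA : A x y
  · have h1 : ∀ z : {z // A x z}, z = ⟨y, hA⟩ := by
      rintro ⟨z, hz⟩
      obtain ⟨g, hg1, hg2⟩ := h.orb1 x y x z hA hz
      apply Subtype.ext
      have h2 : g • y = y := hxy (show g • x = x from hg1)
      exact hg2.symm.trans h2
    have h2 := h.deg x
    have h3 : Nat.card {z // A x z} ≤ 1 := by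
      rw [Finite.card_le_one_iff_subsingleton]
      exact ⟨fun a b => by rw [h1 a, h1 b]⟩
    omega
  · have h1 : ∀ z : X, z = x ∨ A x z ∨ z = y := by
      intro z
      by_cases hz : z = x
      · exact Or.inl hz
      · by_cases hz2 : A x z
        · exact Or.inr (Or.inl hz2)
        · obtain ⟨g, hg1, hg2⟩ := h.orb2 x y x z hne hA (Ne.symm hz) hz2
          have h2 : g • y = y := hxy (show g • x = x from hg1)
          exact Or.inr (Or.inr (by rw [← hg2, h2]))
    have h2 : (Finset.univ : Finset X) ⊆ insert x (insert y (Finset.univ.filter fun z => A x z)) := by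
      intro z _
      rcases h1 z with h3 | h3 | h3 <;> simp [h3]
    have h3 := Finset.card_le_card h2
    have h4 : (Finset.univ.filter fun z => A x z).card = k := by
      rw [← h.deg x, Nat.card_eq_fintype_card, Fintype.card_subtype]
    have h5 := Finset.card_insert_le x (insert y (Finset.univ.filter fun z => A x z))
    have h6 := Finset.card_insert_le y (Finset.univ.filter fun z => A x z)
    have h7 := h.card
    rw [Nat.card_eq_fintype_card, ← Finset.card_univ] at h7
    omega

/-- the rank is 3 -/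
theorem Rank3.card_orbits (h : Rank3 S X A n k lam mu) (hk : 0 < k) (hkn : k + 1 < n) :
    Nat.card (orbitRel.Quotient S (X × X)) = 3 := by
  classical
  have := Fintype.ofFinite X
  let f : X × X → Fin 3 := fun z => if z.1 = z.2 then 0 else if A z.1 z.2 then 1 else 2
  have hinv : ∀ (g : S) (x y : X), A (g • x) (g • y) ↔ A x y := by
    intro g x y
    refine ⟨fun h1 => ?_, h.inv g x y⟩
    have h2 := h.inv g⁻¹ _ _ h1
    rwa [inv_smul_smul, inv_smul_smul] at h2
  have hf : ∀ a b : X × X, (orbitRel S (X × X)) a b → f a = f b := by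
    intro a b hab
    obtain ⟨g, rfl⟩ := hab
    have h1 : (g • b).1 = g • b.1 := rfl
    have h2 : (g • b).2 = g • b.2 := rfl
    simp only [f, h1, h2, smul_left_cancel_iff, hinv]
  have hn : 0 < n := by omega
  have hX : Nonempty X := by
    rw [← Fintype.card_pos_iff, ← Nat.card_eq_fintype_card, h.card]
    exact hn
  obtain ⟨x⟩ := hX
  obtain ⟨y, hy⟩ : ∃ y, A x y := by
    by_contra hcon
    push Not at hcon
    have h1 := h.deg x
    have : IsEmpty {y // A x y} := ⟨fun y => hcon y.1 y.2⟩
    rw [Nat.card_of_isEmpty] at h1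
    omega
  obtain ⟨z, hz1, hz2⟩ : ∃ z, x ≠ z ∧ ¬ A x z := by
    by_contra hcon
    push Not at hcon
    have h2 : (Finset.univ : Finset X) ⊆ insert x (Finset.univ.filter fun z => A x z) := by
      intro z _
      by_cases hxz : x = z
      · simp [hxz]
      · simp [hcon z hxz]
    have h3 := Finset.card_le_card h2
    have h4 : (Finset.univ.filter fun z => A x z).card = k := by
      rw [← h.deg x, Nat.card_eq_fintype_card, Fintype.card_subtype]
    have h5 := Finset.card_insert_le x (Finset.univ.filter fun z => A x z)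
    have h7 := h.card
    rw [Nat.card_eq_fintype_card, ← Finset.card_univ] at h7
    omega
  have hxy : x ≠ y := by
    rintro rfl
    exact h.irrefl _ hy
  have hbij : Function.Bijective (Quotient.lift (s := orbitRel S (X × X)) f hf) := by
    constructor
    · intro a b
      induction a using Quotient.inductionOn with | _ a => ?_
      induction b using Quotient.inductionOn with | _ b => ?_
      intro hab
      have hab' : f a = f b := hab
      apply Quotient.sound
      show (orbitRel S (X × X)) a b
      rw [MulAction.orbitRel_apply]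
      obtain ⟨a1, a2⟩ := a
      obtain ⟨b1, b2⟩ := b
      simp only [f] at hab'
      by_cases e1 : a1 = a2
      · by_cases e2 : b1 = b2
        · obtain ⟨g, hg⟩ := h.trans b1 a1
          refine ⟨g, ?_⟩
          show (g • b1, g • b2) = (a1, a2)
          rw [← e2, hg, ← e1]
        · exfalso
          rw [if_pos e1, if_neg e2] at hab'
          split_ifs at hab' <;> exact absurd hab' (by decide)
      · rw [if_neg e1] at hab'
        by_cases e2 : b1 = b2
        · exfalso
          rw [if_pos e2] at hab'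
          split_ifs at hab' <;> exact absurd hab' (by decide)
        · rw [if_neg e2] at hab'
          by_cases e3 : A a1 a2
          · by_cases e4 : A b1 b2
            · obtain ⟨g, hg1, hg2⟩ := h.orb1 _ _ _ _ e4 e3
              exact ⟨g, Prod.ext hg1 hg2⟩
            · rw [if_pos e3, if_neg e4] at hab'
              exact absurd hab' (by decide)
          · by_cases e4 : A b1 b2
            · rw [if_neg e3, if_pos e4] at hab'
              exact absurd hab' (by decide)
            · obtain ⟨g, hg1, hg2⟩ := h.orb2 _ _ _ _ e2 e4 e1 e3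
              exact ⟨g, Prod.ext hg1 hg2⟩
    · intro i
      fin_cases i
      · exact ⟨Quotient.mk _ (x, x), by
          show f (x, x) = 0
          simp [f]⟩
      · exact ⟨Quotient.mk _ (x, y), by
          show f (x, y) = 1
          simp [f, hxy, hy]⟩
      · exact ⟨Quotient.mk _ (x, z), by
          show f (x, z) = 2
          simp [f, hz1, hz2]⟩
  rw [Nat.card_eq_of_bijective _ hbij, Nat.card_fin]

/-- **Rank 3 rows.** -/
theorem evenB_of_rank3 (h : Rank3 S X A n k lam mu) (hk : 1 < k) (hkn : k + 2 < n) (hn : Even n) (hl : Even lam)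
    (hm : Even mu) (haut : ∀ α : S ≃* S, ∃ p : Equiv.Perm X, ∀ (s : S) (x : X), α s • p x = p (s • x)) : EvenB S := by
  refine evenB_of_action (X := X) (Rank3.inj h hk hkn) haut ?_ ?_
  · rw [h.card, Rank3.card_orbits h (by omega) (by omega)]
    exact hn.add_odd (by decide)
  · intro N _ _ e M hM χ hχ
    have := Fintype.ofFinite X
    letI := actE e X
    exact Rank3.mem' (rank3_actE h e) (by omega) (by omega) hM hn hl hm χ hχ

/-- Rank 3 rows, in all universes. -/
theorem evenB_of_rank3' {S : Type*} [Group S] [MulAction S X] (h : Rank3 S X A n k lam mu) (hk : 1 < k)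
    (hkn : k + 2 < n) (hn : Even n) (hl : Even lam) (hm : Even mu)
    (haut : ∀ α : S ≃* S, ∃ p : Equiv.Perm X, ∀ (s : S) (x : X), α s • p x = p (s • x))
    {T : Type u} [Group T] (e : S ≃* T) : EvenB T := by
  letI := actE e X
  refine evenB_of_rank3 (rank3_actE h e) hk hkn hn hl hm fun α => ?_
  obtain ⟨p, hp⟩ := haut ((e.trans α).trans e.symm)
  refine ⟨p, fun t x => ?_⟩
  have h1 := hp (e.symm t) x
  show e.symm (α t) • p x = p (e.symm t • x)
  rw [← h1]
  show _ = e.symm (α (e (e.symm t))) • p x
  rw [MulEquiv.apply_symm_apply]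

end Cfsg.Agent.H689.EB
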